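import Mathlib
import Cfsg.Agent.TcData.ON.Cov3.Rep0

set_option autoImplicit false
set_option Elab.async false
set_option maxRecDepth 100000
set_option linter.all false

namespace Cfsg.Agent.TcData.ON.Cov3

open Cfsg.Spor Cfsg.Agent.Lib.TcFacts Cfsg.Agent.Lib.TcBits Cfsg.Agent.Lib.TcPres Cfsg.Spor.ON Cfsg.Agent.TcData.ON

theorem c_a_a : ∀ j, j < 19 → chkW ((FreeGroup.of Gen.a * FreeGroup.of Gen.a) ^ coxLabel edges Gen.a Gen.a) j = true := by decide +kernel

theorem c_a_b : ∀ j, j < 19 → chkW ((FreeGroup.of Gen.a * FreeGroup.of Gen.b) ^ coxLabel edges Gen.a Gen.b) j = true := by decide +kernel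

theorem c_a_c : ∀ j, j < 19 → chkW ((FreeGroup.of Gen.a * FreeGroup.of Gen.c) ^ coxLabel edges Gen.a Gen.c) j = true := by decide +kernel

theorem c_a_d : ∀ j, j < 19 → chkW ((FreeGroup.of Gen.a * FreeGroup.of Gen.d) ^ coxLabel edges Gen.a Gen.d) j = true := by decide +kernel

theorem c_a_e : ∀ j, j < 19 → chkW ((FreeGroup.of Gen.a * FreeGroup.of Gen.e) ^ coxLabel edges Gen.a Gen.e) j = true := by decide +kernel

theorem c_a_f : ∀ j, j < 19 → chkW ((FreeGroup.of Gen.a * FreeGroup.of Gen.f) ^ coxLabel edges Gen.a Gen.f) j = true := by decide +kernel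

theorem c_b_a : ∀ j, j < 19 → chkW ((FreeGroup.of Gen.b * FreeGroup.of Gen.a) ^ coxLabel edges Gen.b Gen.a) j = true := by decide +kernel

theorem c_b_b : ∀ j, j < 19 → chkW ((FreeGroup.of Gen.b * FreeGroup.of Gen.b) ^ coxLabel edges Gen.b Gen.b) j = true := by decide +kernel

theorem c_b_c : ∀ j, j < 19 → chkW ((FreeGroup.of Gen.b * FreeGroup.of Gen.c) ^ coxLabel edges Gen.b Gen.c) j = true := by decide +kernel

theorem c_b_d : ∀ j, j < 19 → chkW ((FreeGroup.of Gen.b * FreeGroup.of Gen.d) ^ coxLabel edges Gen.b Gen.d) j = true := by decide +kernel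

theorem c_b_e : ∀ j, j < 19 → chkW ((FreeGroup.of Gen.b * FreeGroup.of Gen.e) ^ coxLabel edges Gen.b Gen.e) j = true := by decide +kernel

theorem c_b_f : ∀ j, j < 19 → chkW ((FreeGroup.of Gen.b * FreeGroup.of Gen.f) ^ coxLabel edges Gen.b Gen.f) j = true := by decide +kernel

theorem c_c_a : ∀ j, j < 19 → chkW ((FreeGroup.of Gen.c * FreeGroup.of Gen.a) ^ coxLabel edges Gen.c Gen.a) j = true := by decide +kernel

theorem c_c_b : ∀ j, j < 19 → chkW ((FreeGroup.of Gen.c * FreeGroup.of Gen.b) ^ coxLabel edges Gen.c Gen.b) j = true := by decide +kernel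

theorem c_c_c : ∀ j, j < 19 → chkW ((FreeGroup.of Gen.c * FreeGroup.of Gen.c) ^ coxLabel edges Gen.c Gen.c) j = true := by decide +kernel

theorem c_c_d : ∀ j, j < 19 → chkW ((FreeGroup.of Gen.c * FreeGroup.of Gen.d) ^ coxLabel edges Gen.c Gen.d) j = true := by decide +kernel

theorem c_c_e : ∀ j, j < 19 → chkW ((FreeGroup.of Gen.c * FreeGroup.of Gen.e) ^ coxLabel edges Gen.c Gen.e) j = true := by decide +kernel

theorem c_c_f : ∀ j, j < 19 → chkW ((FreeGroup.of Gen.c * FreeGroup.of Gen.f) ^ coxLabel edges Gen.c Gen.f) j = true := by decide +kernel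

theorem c_d_a : ∀ j, j < 19 → chkW ((FreeGroup.of Gen.d * FreeGroup.of Gen.a) ^ coxLabel edges Gen.d Gen.a) j = true := by decide +kernel

theorem c_d_b : ∀ j, j < 19 → chkW ((FreeGroup.of Gen.d * FreeGroup.of Gen.b) ^ coxLabel edges Gen.d Gen.b) j = true := by decide +kernel

theorem c_d_c : ∀ j, j < 19 → chkW ((FreeGroup.of Gen.d * FreeGroup.of Gen.c) ^ coxLabel edges Gen.d Gen.c) j = true := by decide +kernel

theorem c_d_d : ∀ j, j < 19 → chkW ((FreeGroup.of Gen.d * FreeGroup.of Gen.d) ^ coxLabel edges Gen.d Gen.d) j = true := by decide +kernel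

theorem c_d_e : ∀ j, j < 19 → chkW ((FreeGroup.of Gen.d * FreeGroup.of Gen.e) ^ coxLabel edges Gen.d Gen.e) j = true := by decide +kernel

theorem c_d_f : ∀ j, j < 19 → chkW ((FreeGroup.of Gen.d * FreeGroup.of Gen.f) ^ coxLabel edges Gen.d Gen.f) j = true := by decide +kernel

theorem c_e_a : ∀ j, j < 19 → chkW ((FreeGroup.of Gen.e * FreeGroup.of Gen.a) ^ coxLabel edges Gen.e Gen.a) j = true := by decide +kernel

theorem c_e_b : ∀ j, j < 19 → chkW ((FreeGroup.of Gen.e * FreeGroup.of Gen.b) ^ coxLabel edges Gen.e Gen.b) j = true := by decide +kernel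

theorem c_e_c : ∀ j, j < 19 → chkW ((FreeGroup.of Gen.e * FreeGroup.of Gen.c) ^ coxLabel edges Gen.e Gen.c) j = true := by decide +kernel

theorem c_e_d : ∀ j, j < 19 → chkW ((FreeGroup.of Gen.e * FreeGroup.of Gen.d) ^ coxLabel edges Gen.e Gen.d) j = true := by decide +kernel

theorem c_e_e : ∀ j, j < 19 → chkW ((FreeGroup.of Gen.e * FreeGroup.of Gen.e) ^ coxLabel edges Gen.e Gen.e) j = true := by decide +kernel

theorem c_e_f : ∀ j, j < 19 → chkW ((FreeGroup.of Gen.e * FreeGroup.of Gen.f) ^ coxLabel edges Gen.e Gen.f) j = true := by decide +kernel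

theorem c_f_a : ∀ j, j < 19 → chkW ((FreeGroup.of Gen.f * FreeGroup.of Gen.a) ^ coxLabel edges Gen.f Gen.a) j = true := by decide +kernel

theorem c_f_b : ∀ j, j < 19 → chkW ((FreeGroup.of Gen.f * FreeGroup.of Gen.b) ^ coxLabel edges Gen.f Gen.b) j = true := by decide +kernel

theorem c_f_c : ∀ j, j < 19 → chkW ((FreeGroup.of Gen.f * FreeGroup.of Gen.c) ^ coxLabel edges Gen.f Gen.c) j = true := by decide +kernel

theorem c_f_d : ∀ j, j < 19 → chkW ((FreeGroup.of Gen.f * FreeGroup.of Gen.d) ^ coxLabel edges Gen.f Gen.d) j = true := by decide +kernel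

theorem c_f_e : ∀ j, j < 19 → chkW ((FreeGroup.of Gen.f * FreeGroup.of Gen.e) ^ coxLabel edges Gen.f Gen.e) j = true := by decide +kernel

theorem c_f_f : ∀ j, j < 19 → chkW ((FreeGroup.of Gen.f * FreeGroup.of Gen.f) ^ coxLabel edges Gen.f Gen.f) j = true := by decide +kernel

theorem e_0 : ∀ j, j < 19 → chkW (extra3.getD 0 1) j = true := by decide +kernel

theorem e_1 : ∀ j, j < 19 → chkW (extra3.getD 1 1) j = true := by decide +kernel

theorem e_2 : ∀ j, j < 19 → chkW (extra3.getD 2 1) j = true := by decide +kernel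

theorem e_3 : ∀ j, j < 19 → chkW (extra3.getD 3 1) j = true := by decide +kernel

theorem e_4 : ∀ j, j < 19 → chkW (extra3.getD 4 1) j = true := by decide +kernel

theorem e_5 : ∀ j, j < 19 → chkW (extra3.getD 5 1) j = true := by decide +kernel

theorem e_6 : ∀ j, j < 19 → chkW (extra3.getD 6 1) j = true := by decide +kernel

theorem e_7 : ∀ j, j < 19 → chkW (extra3.getD 7 1) j = true := by decide +kernel

theorem e_8 : ∀ j, j < 19 → chkW (extra3.getD 8 1) j = true := by decide +kernel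

theorem e_9 : ∀ j, j < 19 → chkW (extra3.getD 9 1) j = true := by decide +kernel

theorem e_10 : ∀ j, j < 19 → chkW (extra3.getD 10 1) j = true := by decide +kernel

theorem e_11 : ∀ j, j < 19 → chkW (extra3.getD 11 1) j = true := by decide +kernel

theorem e_12 : ∀ j, j < 19 → chkW (extra3.getD 12 1) j = true := by decide +kernel

theorem e_13 : ∀ j, j < 19 → chkW (extra3.getD 13 1) j = true := by decide +kernel

end Cfsg.Agent.TcData.ON.Cov3
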